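import Mathlib

/-!
# The constructible topology of a spectral space

`C X := constructibleTopology X`.  Compactness, Hausdorffness, spectral maps, patches
(`closure_of_isClosed`, `spectralSpace_of_isClosed`), products and finite spaces.
-/

universe u v

open Topology TopologicalSpace Set Filter

noncomputable section

namespace Groth.Agent.SpectralLib

variable {X : Type u} [TopologicalSpace X] {Y : Type v} [TopologicalSpace Y]

local notation "C" => constructibleTopology

lemma isOpen_C_of_compactOpen {s : Set X} (ho : IsOpen s) (hc : IsCompact s) : IsOpen[C X] s :=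
  hc.isOpen_constructibleTopology_of_isOpen ho

lemma isClosed_C_of_compactOpen {s : Set X} (ho : IsOpen s) (hc : IsCompact s) :
    IsClosed[C X] s :=
  (@isOpen_compl_iff X s (C X)).mp
    (IsCompact.isOpen_constructibleTopology_of_isClosed (by rwa [compl_compl]) ho.isClosed_compl)

lemma isOpen_C_of_isOpen [PrespectralSpace X] {s : Set X} (hs : IsOpen s) : IsOpen[C X] s := by
  obtain ⟨S, hS, rfl⟩ := PrespectralSpace.isTopologicalBasis.open_eq_sUnion hs
  exact @isOpen_sUnion X (C X) S fun t ht => isOpen_C_of_compactOpen (hS ht).1 (hS ht).2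

lemma isClosed_C_of_isClosed [PrespectralSpace X] {s : Set X} (hs : IsClosed s) :
    IsClosed[C X] s :=
  (@isOpen_compl_iff X s (C X)).mp (isOpen_C_of_isOpen hs.isOpen_compl)

lemma C_le [PrespectralSpace X] : C X ≤ ‹TopologicalSpace X› := fun _ hs => isOpen_C_of_isOpen hs

lemma compactSpace_C [CompactSpace X] [QuasiSober X] [PrespectralSpace X] [QuasiSeparatedSpace X] :
    @CompactSpace X (C X) := by
  have h := compactSpace_withConstructibleTopology (X := X)
  refine @CompactSpace.mk X (C X) ?_
  have := @IsCompact.image (WithConstructibleTopology X) X _ (C X) Set.univ WithTopology.ofTopology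
    isCompact_univ (WithTopology.continuous_ofTopology _)
  rwa [Set.image_univ, (WithTopology.ofTopology_surjective (t := C X)).range_eq] at this

lemma isCompact_C_of_isClosed [SpectralSpace X] {s : Set X} (hs : IsClosed[C X] s) :
    @IsCompact X (C X) s :=
  @IsClosed.isCompact X (C X) s compactSpace_C hs

lemma isCompact_of_isCompact_C [PrespectralSpace X] {s : Set X} (hs : @IsCompact X (C X) s) :
    IsCompact s := by
  simpa using @IsCompact.image X X (C X) _ s id hs (continuous_id_of_le C_le)

lemma isCompact_of_isClosed_C [SpectralSpace X] {s : Set X} (hs : IsClosed[C X] s) : IsCompact s :=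
  isCompact_of_isCompact_C (isCompact_C_of_isClosed hs)

/-- A family of constructibly closed sets with the finite intersection property meets. -/
lemma nonempty_iInter [SpectralSpace X] {ι : Type*} (Z : ι → Set X) (hZ : ∀ i, IsClosed[C X] (Z i))
    (h : ∀ s : Finset ι, (⋂ i ∈ s, Z i).Nonempty) : (⋂ i, Z i).Nonempty := by
  have hc : @IsCompact X (C X) Set.univ := @isCompact_univ X (C X) compactSpace_C
  simpa using @IsCompact.inter_iInter_nonempty X (C X) Set.univ ι hc Z hZ (fun s => by simpa using h s)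

/-- Directed version. -/
lemma nonempty_iInter_of_directed [SpectralSpace X] {ι : Type*} [Nonempty ι] (Z : ι → Set X)
    (hZ : ∀ i, IsClosed[C X] (Z i)) (hd : Directed (· ⊇ ·) Z) (hne : ∀ i, (Z i).Nonempty) :
    (⋂ i, Z i).Nonempty :=
  nonempty_iInter Z hZ fun s => by
    classical
    obtain ⟨k, hk⟩ := hd.finset_le s
    exact (hne k).mono fun x hx => mem_iInter₂.mpr fun i hi => hk i hi hx

lemma specializes_of_forall_compactOpen [PrespectralSpace X] {x y : X}
    (h : ∀ U : Set X, IsOpen U → IsCompact U → y ∈ U → x ∈ U) : x ⤳ y := by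
  rw [specializes_iff_forall_open]
  intro s hs hy
  obtain ⟨V, ⟨hVo, hVc⟩, hyV, hVs⟩ :=
    PrespectralSpace.isTopologicalBasis.exists_subset_of_mem_open hy hs
  exact hVs (h V hVo hVc hyV)

lemma t2Space_C [T0Space X] [PrespectralSpace X] : @T2Space X (C X) := by
  refine @T2Space.mk X (C X) fun x y hxy => ?_
  have key : ∀ {a b : X}, ¬ a ⤳ b → ∃ U : Set X, IsOpen U ∧ IsCompact U ∧ b ∈ U ∧ a ∉ U := by
    intro a b h
    by_contra! H
    exact h (specializes_of_forall_compactOpen H)
  by_cases h : x ⤳ y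
  · obtain ⟨U, ho, hc, hx, hy⟩ := key (a := y) (b := x) fun h' => hxy (h.antisymm h').eq
    exact ⟨U, Uᶜ, isOpen_C_of_compactOpen ho hc,
      (@isOpen_compl_iff X U (C X)).mpr (isClosed_C_of_compactOpen ho hc), hx, hy,
      disjoint_compl_right⟩
  · obtain ⟨U, ho, hc, hy, hx⟩ := key h
    exact ⟨Uᶜ, U, (@isOpen_compl_iff X U (C X)).mpr (isClosed_C_of_compactOpen ho hc),
      isOpen_C_of_compactOpen ho hc, hx, hy, disjoint_compl_left⟩

lemma totallySeparatedSpace_C [T0Space X] [PrespectralSpace X] :
    @TotallySeparatedSpace X (C X) := by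
  rw [@totallySeparatedSpace_iff_exists_isClopen X (C X)]
  intro x y hxy
  have key : ∀ {a b : X}, ¬ a ⤳ b → ∃ U : Set X, IsOpen U ∧ IsCompact U ∧ b ∈ U ∧ a ∉ U := by
    intro a b h
    by_contra! H
    exact h (specializes_of_forall_compactOpen H)
  by_cases h : x ⤳ y
  · obtain ⟨U, ho, hc, hx, hy⟩ := key (a := y) (b := x) fun h' => hxy (h.antisymm h').eq
    exact ⟨U, ⟨isClosed_C_of_compactOpen ho hc, isOpen_C_of_compactOpen ho hc⟩, hx, hy⟩
  · obtain ⟨U, ho, hc, hy, hx⟩ := key h
    exact ⟨Uᶜ, @IsClopen.compl X (C X) U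
      ⟨isClosed_C_of_compactOpen ho hc, isOpen_C_of_compactOpen ho hc⟩, hx, fun hy' => hy' hy⟩

lemma continuous_C {f : X → Y} (hf : IsSpectralMap f) : Continuous[C X, C Y] f := by
  refine continuous_generateFrom_iff.mpr fun s hs => ?_
  rcases hs with ⟨ho, hc⟩ | ⟨hcl, hc⟩
  · exact isOpen_C_of_compactOpen (ho.preimage hf.continuous) (hc.preimage_of_isOpen hf ho)
  · refine IsCompact.isOpen_constructibleTopology_of_isClosed ?_ (hcl.preimage hf.continuous)
    rw [← preimage_compl]
    exact hc.preimage_of_isOpen hf hcl.isOpen_compl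

lemma isSpectralMap_of_continuous_C [SpectralSpace X] [PrespectralSpace Y] {f : X → Y}
    (hf : Continuous f) (hf' : Continuous[C X, C Y] f) : IsSpectralMap f :=
  ⟨hf, fun _ ho hc => isCompact_of_isClosed_C
    (@IsClosed.preimage X Y (C X) (C Y) f hf' _ (isClosed_C_of_compactOpen ho hc))⟩

lemma isClosed_C_range [SpectralSpace X] [T0Space Y] [PrespectralSpace Y] {f : X → Y}
    (hf : IsSpectralMap f) : IsClosed[C Y] (Set.range f) :=
  @IsCompact.isClosed Y (C Y) t2Space_C _
    (@isCompact_range X Y (C X) (C Y) compactSpace_C f (continuous_C hf))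

lemma isClopen_C_of_isConstructible [SpectralSpace X] {s : Set X} (hs : IsConstructible s) :
    IsClosed[C X] s ∧ IsOpen[C X] s := by
  induction hs using IsConstructible.empty_union_induction with
  | open_retrocompact U ho hc =>
    exact ⟨isClosed_C_of_compactOpen ho hc.isCompact, isOpen_C_of_compactOpen ho hc.isCompact⟩
  | union s _ t _ h1 h2 =>
    exact ⟨@IsClosed.union X s t (C X) h1.1 h2.1, @IsOpen.union X s t (C X) h1.2 h2.2⟩
  | compl s _ h =>
    exact ⟨(@isOpen_compl_iff X sᶜ (C X)).mp (by rw [compl_compl]; exact h.2),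
      (@isOpen_compl_iff X s (C X)).mpr h.1⟩

lemma exists_specializes_of_mem_closure [SpectralSpace X] {E : Set X} (hE : IsClosed[C X] E)
    {x : X} (hx : x ∈ closure E) : ∃ e ∈ E, e ⤳ x := by
  let ι := {U : Set X // IsOpen U ∧ IsCompact U ∧ x ∈ U}
  obtain ⟨V, ⟨hVo, hVc⟩, hxV, -⟩ :=
    PrespectralSpace.isTopologicalBasis.exists_subset_of_mem_open (Set.mem_univ x) isOpen_univ
  have : Nonempty ι := ⟨⟨V, hVo, hVc, hxV⟩⟩
  obtain ⟨e, he⟩ := nonempty_iInter_of_directed (fun U : ι => E ∩ U.1)
    (fun U => @IsClosed.inter X E U.1 (C X) hE (isClosed_C_of_compactOpen U.2.1 U.2.2.1))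
    (fun U U' => ⟨⟨U.1 ∩ U'.1, U.2.1.inter U'.2.1,
      QuasiSeparatedSpace.inter_isCompact _ _ U.2.1 U.2.2.1 U'.2.1 U'.2.2.1, U.2.2.2, U'.2.2.2⟩,
      inter_subset_inter_right _ inter_subset_left, inter_subset_inter_right _ inter_subset_right⟩)
    (fun U => Set.inter_comm E U.1 ▸ mem_closure_iff.mp hx U.1 U.2.1 U.2.2.2)
  simp only [mem_iInter] at he
  exact ⟨e, (he ⟨V, hVo, hVc, hxV⟩).1,
    specializes_of_forall_compactOpen fun U ho hc hxU => (he ⟨U, ho, hc, hxU⟩).2⟩

lemma isClosed_of_stableUnderSpecialization [SpectralSpace X] {E : Set X} (hE : IsClosed[C X] E)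
    (h : StableUnderSpecialization E) : IsClosed E :=
  isClosed_of_closure_subset fun _ hx =>
    let ⟨_, he, hex⟩ := exists_specializes_of_mem_closure hE hx; h hex he

lemma isOpen_of_stableUnderGeneralization [SpectralSpace X] {E : Set X} (hE : IsOpen[C X] E)
    (h : StableUnderGeneralization E) : IsOpen E :=
  isClosed_compl_iff.mp (isClosed_of_stableUnderSpecialization
    ((@isClosed_compl_iff X (C X) E).mpr hE) (stableUnderSpecialization_compl_iff.mpr h))

/-- A patch is spectral, and its inclusion is spectral. -/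
lemma spectralSpace_of_isClosed [SpectralSpace X] {E : Set X} (hE : IsClosed[C X] E) :
    SpectralSpace E ∧ IsSpectralMap (Subtype.val : E → X) := by
  have hcE : ∀ U : Set X, IsOpen U → IsCompact U → IsCompact (Subtype.val ⁻¹' U : Set E) := by
    intro U ho hc
    rw [IsInducing.subtypeVal.isCompact_iff, Subtype.image_preimage_coe]
    exact isCompact_of_isClosed_C (@IsClosed.inter X E U (C X) hE (isClosed_C_of_compactOpen ho hc))
  have hb := isTopologicalBasis_subtype (PrespectralSpace.isTopologicalBasis (X := X)) (· ∈ E)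
  have : CompactSpace E := isCompact_iff_compactSpace.mp (isCompact_of_isClosed_C hE)
  have : PrespectralSpace E := PrespectralSpace.of_isTopologicalBasis hb (by
    rintro _ ⟨U, ⟨ho, hc⟩, rfl⟩
    exact hcE U ho hc)
  have key : ∀ W : Set E, IsOpen W → IsCompact W →
      ∃ U : Set X, IsOpen U ∧ IsCompact U ∧ Subtype.val ⁻¹' U = W := by
    intro W ho hc
    obtain ⟨U, hUo, rfl⟩ := isOpen_induced_iff.mp ho
    have hc' := IsInducing.subtypeVal.isCompact_iff.mp hc
    obtain ⟨K, hK, hKo, h1, h2⟩ :=
      PrespectralSpace.exists_isCompact_and_isOpen_between hc' hUo (Set.image_preimage_subset _ _)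
    exact ⟨K, hKo, hK, Subset.antisymm (preimage_mono h2) fun e he => h1 ⟨e, he, rfl⟩⟩
  have : QuasiSeparatedSpace E := ⟨fun U V hUo hUc hVo hVc => by
    obtain ⟨U, h1, h2, rfl⟩ := key U hUo hUc
    obtain ⟨V, h3, h4, rfl⟩ := key V hVo hVc
    exact hcE _ (h1.inter h3) (QuasiSeparatedSpace.inter_isCompact _ _ h1 h2 h3 h4)⟩
  have : QuasiSober E := ⟨fun {Z} hZ hZc => by
    have hZ' : IsIrreducible (Subtype.val '' Z) := hZ.image _ continuous_subtype_val.continuousOn
    have hη := hZ'.isGenericPoint_genericPoint_closure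
    obtain ⟨W, hW, rfl⟩ := isClosed_induced_iff.mp hZc
    generalize hZ'.genericPoint = η at hη
    rw [Subtype.image_preimage_coe] at hη
    obtain ⟨e, ⟨heE, heW⟩, he⟩ := exists_specializes_of_mem_closure
      (@IsClosed.inter X E W (C X) hE (isClosed_C_of_isClosed hW)) hη.mem
    have hηe : η = e := ((hη.specializes (subset_closure ⟨heE, heW⟩)).antisymm he).eq
    refine ⟨⟨e, heE⟩, ?_⟩
    refine Subset.antisymm ((hW.preimage continuous_subtype_val).closure_subset_iff.mpr
      (singleton_subset_iff.mpr heW)) fun z hz => ?_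
    rw [closure_subtype, image_singleton]
    exact (hηe ▸ hη : IsGenericPoint e _).def.ge (subset_closure (s := E ∩ W) ⟨z.2, hz⟩)⟩
  exact ⟨{ }, continuous_subtype_val, fun U ho hc => hcE U ho hc⟩

lemma isClosed_C_preimage_val [SpectralSpace X] {E F : Set X} (hE : IsClosed[C X] E)
    (hF : IsClosed[C X] F) : IsClosed[C E] (Subtype.val ⁻¹' F : Set E) :=
  @IsClosed.preimage E X (C E) (C X) _ (continuous_C (spectralSpace_of_isClosed hE).2) _ hF

/-- Transport along a homeomorphism. -/
lemma spectralSpace_homeomorph [SpectralSpace X] (e : X ≃ₜ Y) :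
    SpectralSpace Y ∧ IsSpectralMap e.symm :=
  have : CompactSpace Y := e.compactSpace
  ⟨e.symm.isOpenEmbedding.spectralSpace,
    ⟨e.symm.continuous, fun _ _ hc => e.symm.isClosedEmbedding.isCompact_preimage hc⟩⟩

instance spectralSpace_of_finite [Finite X] [T0Space X] [QuasiSober X] : SpectralSpace X where
  __ := (inferInstance : PrespectralSpace X)
  inter_isCompact _ _ _ _ _ _ := (Set.toFinite _).isCompact

lemma isSpectralMap_of_finite [Finite X] {f : X → Y} (hf : Continuous f) : IsSpectralMap f :=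
  ⟨hf, fun _ _ _ => (Set.toFinite _).isCompact⟩

section Pi

variable {ι : Type*} (A : ι → Type v) [∀ i, TopologicalSpace (A i)] [∀ i, SpectralSpace (A i)]

lemma isTopologicalBasis_pi_compactOpen : IsTopologicalBasis
    {S : Set (∀ i, A i) | ∃ (U : ∀ i, Set (A i)) (F : Finset ι),
      (∀ i, i ∈ F → IsOpen (U i) ∧ IsCompact (U i)) ∧ S = (F : Set ι).pi U} :=
  isTopologicalBasis_pi fun _ => PrespectralSpace.isTopologicalBasis

lemma isCompact_cylinder (U : ∀ i, Set (A i)) (F : Finset ι)
    (hU : ∀ i ∈ F, IsCompact (U i)) : IsCompact ((F : Set ι).pi U) := by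
  classical
  have h : (F : Set ι).pi U = Set.univ.pi fun i => if i ∈ F then U i else Set.univ := by
    ext x
    refine ⟨fun h i _ => ?_, fun h i hi => ?_⟩
    · by_cases hi : i ∈ F
      · simp only [if_pos hi]; exact h i hi
      · simp only [if_neg hi]; exact Set.mem_univ _
    · have := h i (Set.mem_univ i)
      simpa [Finset.mem_coe.mp hi] using this
  rw [h]
  exact isCompact_univ_pi fun i => by
    by_cases hi : i ∈ F
    · simp only [if_pos hi]; exact hU i hi
    · simp only [if_neg hi]; exact isCompact_univ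

instance spectralSpace_pi : SpectralSpace (∀ i, A i) := by
  classical
  have hb := isTopologicalBasis_pi_compactOpen A
  have hcb : ∀ S ∈ {S : Set (∀ i, A i) | ∃ (U : ∀ i, Set (A i)) (F : Finset ι),
      (∀ i, i ∈ F → IsOpen (U i) ∧ IsCompact (U i)) ∧ S = (F : Set ι).pi U}, IsCompact S := by
    rintro _ ⟨U, F, hU, rfl⟩
    exact isCompact_cylinder A U F fun i hi => (hU i hi).2
  have : PrespectralSpace (∀ i, A i) := PrespectralSpace.of_isTopologicalBasis hb hcb
  have : QuasiSeparatedSpace (∀ i, A i) := ⟨fun P Q hPo hPc hQo hQc => by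
    obtain ⟨s, hs, rfl⟩ := eq_finite_iUnion_of_isTopologicalBasis_of_isCompact_open
      (Subtype.val : ↥{S : Set (∀ i, A i) | ∃ (U : ∀ i, Set (A i)) (F : Finset ι),
        (∀ i, i ∈ F → IsOpen (U i) ∧ IsCompact (U i)) ∧ S = (F : Set ι).pi U} → Set (∀ i, A i))
      (by rwa [Subtype.range_coe]) P hPc hPo
    obtain ⟨t, ht, rfl⟩ := eq_finite_iUnion_of_isTopologicalBasis_of_isCompact_open
      (Subtype.val : ↥{S : Set (∀ i, A i) | ∃ (U : ∀ i, Set (A i)) (F : Finset ι),
        (∀ i, i ∈ F → IsOpen (U i) ∧ IsCompact (U i)) ∧ S = (F : Set ι).pi U} → Set (∀ i, A i))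
      (by rwa [Subtype.range_coe]) Q hQc hQo
    rw [Set.iUnion₂_inter]
    refine hs.isCompact_biUnion fun S _ => ?_
    rw [Set.inter_iUnion₂]
    refine ht.isCompact_biUnion fun T _ => ?_
    obtain ⟨U, F, hU, hS⟩ := S.2
    obtain ⟨V, G, hV, hT⟩ := T.2
    rw [hS, hT]
    have : (F : Set ι).pi U ∩ (G : Set ι).pi V = ((F ∪ G : Finset ι) : Set ι).pi
        fun i => (if i ∈ F then U i else Set.univ) ∩ (if i ∈ G then V i else Set.univ) := by
      ext x
      simp only [mem_inter_iff, Set.mem_pi, Finset.mem_coe, Finset.mem_union]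
      refine ⟨fun h i _ => ⟨?_, ?_⟩, fun h => ⟨fun i hi => ?_, fun i hi => ?_⟩⟩
      · split_ifs with h' <;> [exact h.1 i h'; trivial]
      · split_ifs with h' <;> [exact h.2 i h'; trivial]
      · simpa [hi] using (h i (Or.inl hi)).1
      · simpa [hi] using (h i (Or.inr hi)).2
    rw [this]
    refine isCompact_cylinder A _ _ fun i _ => ?_
    by_cases h₁ : i ∈ F <;> by_cases h₂ : i ∈ G <;>
      simp only [h₁, h₂, if_true, if_false, univ_inter, inter_univ]
    · exact QuasiSeparatedSpace.inter_isCompact _ _ (hU i h₁).1 (hU i h₁).2 (hV i h₂).1 (hV i h₂).2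
    · exact (hU i h₁).2
    · exact (hV i h₂).2
    · exact isCompact_univ⟩
  have : QuasiSober (∀ i, A i) := ⟨fun {Z} hZ hZc => by
    have hp : ∀ i, IsIrreducible (Function.eval i '' Z) := fun i =>
      hZ.image _ (continuous_apply i).continuousOn
    let η : ∀ i, A i := fun i => (hp i).genericPoint
    have hη : ∀ i, IsGenericPoint (η i) (closure (Function.eval i '' Z)) := fun i =>
      (hp i).isGenericPoint_genericPoint_closure
    have hmem : η ∈ Z := by
      rw [← hZc.closure_eq, hb.mem_closure_iff]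
      rintro _ ⟨U, F, hU, rfl⟩ hηU
      suffices ∀ G : Finset ι, G ⊆ F → ((G : Set ι).pi U ∩ Z).Nonempty from this F subset_rfl
      intro G
      induction G using Finset.induction_on with
      | empty => intro _; simpa using hZ.nonempty
      | insert a G ha ih =>
        intro hG
        have haF : a ∈ F := hG (Finset.mem_insert_self a G)
        have h1 : (Z ∩ Function.eval a ⁻¹' U a).Nonempty := by
          obtain ⟨w, hw, z, hz, hzw⟩ :=
            mem_closure_iff.mp (hη a).mem _ (hU a haF).1 (hηU a (Finset.mem_coe.mpr haF))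
          exact ⟨z, hz, by rw [mem_preimage, hzw]; exact hw⟩
        have hGF : G ⊆ F := (Finset.subset_insert a G).trans hG
        have h2 : (Z ∩ (G : Set ι).pi U).Nonempty := inter_comm Z _ ▸ ih hGF
        obtain ⟨z, hz, hza, hzG⟩ := hZ.2 _ _ ((hU a haF).1.preimage (continuous_apply a))
          (isOpen_set_pi G.finite_toSet fun i hi => (hU i (hGF hi)).1) h1 h2
        refine ⟨z, fun i hi => ?_, hz⟩
        rcases Finset.mem_insert.mp (Finset.mem_coe.mp hi) with rfl | hi
        · exact hza
        · exact hzG i hi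
    refine ⟨η, Subset.antisymm (hZc.closure_subset_iff.mpr (singleton_subset_iff.mpr hmem))
      fun z hz => specializes_iff_mem_closure.mp
        (specializes_pi.mpr fun i => (hη i).specializes (subset_closure ⟨z, hz, rfl⟩))⟩⟩
  exact { }

lemma isSpectralMap_eval (i : ι) : IsSpectralMap (Function.eval i : (∀ i, A i) → A i) :=
  ⟨continuous_apply i, fun U _ hc => by
    classical
    have := isCompact_cylinder A (Function.update (fun _ => Set.univ) i U) {i} (by simpa using hc)
    convert this using 1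
    ext x; simp⟩

end Pi

end Groth.Agent.SpectralLib

end

namespace Groth.Agent.SpectralLib

open Topology TopologicalSpace Set

universe w

/-- A finite space is quasi-sober. -/
theorem quasiSober_of_finite (X : Type w) [TopologicalSpace X] [Finite X] : QuasiSober X :=
  ⟨fun {S} hS hSc => by
    classical
    obtain ⟨z, hz, hSz⟩ := isIrreducible_iff_sUnion_isClosed.mp hS
      ((Set.toFinite S).toFinset.image fun x => closure {x})
      (fun z hz => by
        obtain ⟨x, -, rfl⟩ := Finset.mem_image.mp hz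
        exact isClosed_closure)
      (fun x hx => ⟨closure {x}, by simpa using ⟨x, hx, rfl⟩, subset_closure rfl⟩)
    obtain ⟨x, hx, rfl⟩ := Finset.mem_image.mp hz
    exact ⟨x, Subset.antisymm
      (hSc.closure_subset_iff.mpr (singleton_subset_iff.mpr ((Set.toFinite S).mem_toFinset.mp hx))) hSz⟩⟩

/-- The generalisations of a quasi-compact set are the intersection of its compact open neighbourhoods. -/
theorem generalizations_eq_iInter {X : Type w} [TopologicalSpace X] [PrespectralSpace X]
    {E : Set X} (hE : IsCompact E) :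
    {x | ∃ e ∈ E, x ⤳ e} = ⋂ U : {U : Set X // IsOpen U ∧ IsCompact U ∧ E ⊆ U}, U.1 := by
  ext x
  refine ⟨fun ⟨e, he, hxe⟩ => mem_iInter.mpr fun U => hxe.mem_open U.2.1 (U.2.2.2 he), fun hx => ?_⟩
  rw [mem_iInter] at hx
  by_contra H
  have hH : E ⊆ (closure {x})ᶜ := fun e he hex => H ⟨e, he, specializes_iff_mem_closure.mpr hex⟩
  obtain ⟨K, hK, hKo, h1, h2⟩ :=
    PrespectralSpace.exists_isCompact_and_isOpen_between hE isClosed_closure.isOpen_compl hH
  exact h2 (hx ⟨K, hKo, hK, h1⟩) (subset_closure rfl)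

end Groth.Agent.SpectralLib
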