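import Groth.Agent.SpectralLib.Basic
import Groth.Agent.ConstrNoeth.Prespectral
/-!
Closed points and connected components of spectral spaces.
-/

universe u

open Topology TopologicalSpace Set

namespace Groth.Agent.SpectralLib

variable {X : Type u} [TopologicalSpace X] [SpectralSpace X]

/-- The points specializing into a closed set form a constructibly closed set. -/
theorem isClosed_C_generalizations {Z : Set X} (hZ : IsClosed Z) :
    IsClosed[constructibleTopology X] {x | ∃ z ∈ Z, x ⤳ z} := by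
  let ι := {U : Set X // IsOpen U ∧ IsCompact U ∧ Z ⊆ U}
  have : {x | ∃ z ∈ Z, x ⤳ z} = ⋂ U : ι, U.1 := by
    ext x
    refine ⟨fun ⟨z, hz, hxz⟩ => mem_iInter.2 fun U => hxz.mem_open U.2.1 (U.2.2.2 hz), fun hx => ?_⟩
    by_contra hn
    have hn' : ∀ z ∈ Z, ∃ U : Set X, IsOpen U ∧ IsCompact U ∧ z ∈ U ∧ x ∉ U := fun z hz => by
      by_contra h
      exact hn ⟨z, hz, specializes_of_forall_compactOpen fun U ho hc hzU => by
        by_contra hxU
        exact h ⟨U, ho, hc, hzU, hxU⟩⟩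
    choose! U ho hc hzU hxU using hn'
    obtain ⟨t, htZ, hfin, ht⟩ := hZ.isCompact.elim_finite_subcover_image (b := Z) (c := U) ho
      (fun z hz => mem_iUnion₂.2 ⟨z, hz, hzU z hz⟩)
    obtain ⟨i, hi, hxi⟩ := mem_iUnion₂.1 (mem_iInter.1 hx ⟨⋃ z ∈ t, U z, isOpen_biUnion fun z hz => ho z (htZ hz),
      hfin.isCompact_biUnion fun z hz => hc z (htZ hz), ht⟩)
    exact hxU i (htZ hi) hxi
  rw [this]
  exact @isClosed_iInter X ι (constructibleTopology X) _ fun U => isClosed_C_of_compactOpen U.2.1 U.2.2.1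

/-- Clopen decompositions of `Z` extend when `Z` meets every closure in a connected set. -/
theorem exists_clopen_extension (Z : Set X) (hZ : IsClosed Z) (hconn : ∀ x : X, IsConnected (Z ∩ closure {x}))
    (Z₁ Z₂ : Set X) (h₁ : IsClosed Z₁) (h₂ : IsClosed Z₂) (hd : Disjoint Z₁ Z₂) (hu : Z₁ ∪ Z₂ = Z) :
    ∃ X₁ X₂ : Set X, IsClosed X₁ ∧ IsClosed X₂ ∧ Disjoint X₁ X₂ ∧ X₁ ∪ X₂ = Set.univ ∧
      Z₁ = Z ∩ X₁ ∧ Z₂ = Z ∩ X₂ := by
  have side : ∀ x, Z ∩ closure {x} ⊆ Z₁ ∨ Z ∩ closure {x} ⊆ Z₂ := fun x =>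
    isPreconnected_iff_subset_of_disjoint_closed.1 (hconn x).isPreconnected Z₁ Z₂ h₁ h₂
      (inter_subset_left.trans hu.symm.subset) (by rw [hd.inter_eq, inter_empty])
  let G := fun Z' : Set X => {x : X | ∃ z ∈ Z', x ⤳ z}
  have mem : ∀ {Z' : Set X}, Z' ⊆ Z → ∀ {x z}, z ∈ Z' → x ⤳ z → z ∈ Z ∩ closure {x} := fun h _ _ hz hxz =>
    ⟨h hz, specializes_iff_mem_closure.1 hxz⟩
  have hdG : Disjoint (G Z₁) (G Z₂) := Set.disjoint_left.2 fun x ⟨z, hz, hxz⟩ ⟨z', hz', hxz'⟩ => by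
    rcases side x with h | h
    · exact Set.disjoint_left.1 hd (h (mem (subset_union_right.trans hu.subset) hz' hxz')) hz'
    · exact Set.disjoint_left.1 hd hz (h (mem (subset_union_left.trans hu.subset) hz hxz))
  have huG : G Z₁ ∪ G Z₂ = Set.univ := eq_univ_of_forall fun x => by
    obtain ⟨z, hz, hzx⟩ := (hconn x).nonempty
    rw [← hu] at hz
    exact hz.imp (fun h => ⟨z, h, specializes_iff_mem_closure.2 hzx⟩) fun h => ⟨z, h, specializes_iff_mem_closure.2 hzx⟩
  have stab : ∀ {A B : Set X}, A ⊆ Z → B ⊆ Z → Disjoint (G A) (G B) → G A ∪ G B = Set.univ →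
      StableUnderSpecialization (G A) := by
    intro A B _ _ hd hu x y hxy hx
    rcases (hu.ge (mem_univ y) : y ∈ G A ∪ G B) with h | ⟨z, hz, hyz⟩
    · exact h
    · exact absurd (⟨z, hz, hxy.trans hyz⟩ : x ∈ G B) (Set.disjoint_left.1 hd hx)
  have hs₁ : Z₁ ⊆ Z := subset_union_left.trans hu.subset
  have hs₂ : Z₂ ⊆ Z := subset_union_right.trans hu.subset
  refine ⟨G Z₁, G Z₂, isClosed_of_stableUnderSpecialization (isClosed_C_generalizations h₁) (stab hs₁ hs₂ hdG huG),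
    isClosed_of_stableUnderSpecialization (isClosed_C_generalizations h₂)
      (stab hs₂ hs₁ hdG.symm ((union_comm _ _).trans huG)), hdG, huG, ?_, ?_⟩
  · refine subset_antisymm (fun z hz => ⟨hs₁ hz, z, hz, specializes_rfl⟩) fun z ⟨hz, h⟩ => ?_
    rcases hu.ge hz with h' | h'
    · exact h'
    · exact absurd (⟨z, h', specializes_rfl⟩ : z ∈ G Z₂) (Set.disjoint_left.1 hdG h)
  · refine subset_antisymm (fun z hz => ⟨hs₂ hz, z, hz, specializes_rfl⟩) fun z ⟨hz, h⟩ => ?_
    rcases hu.ge hz with h' | h'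
    · exact absurd h (Set.disjoint_left.1 hdG (⟨z, h', specializes_rfl⟩ : z ∈ G Z₁))
    · exact h'

theorem exists_closedPoint_mem {C : Set X} (hC : IsClosed C) (hne : C.Nonempty) :
    ∃ z ∈ C, IsClosed ({z} : Set X) := hC.exists_closed_singleton hne

theorem surjective_closedPoints_mk :
    Function.Surjective (fun x : {x : X // IsClosed ({x} : Set X)} => _root_.ConnectedComponents.mk x.1) := by
  intro c
  obtain ⟨x, rfl⟩ := _root_.ConnectedComponents.surjective_coe c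
  obtain ⟨z, hz, hzc⟩ := exists_closedPoint_mem isClosed_connectedComponent
    (connectedComponent_nonempty (x := x))
  exact ⟨⟨z, hzc⟩, _root_.ConnectedComponents.coe_eq_coe'.2 hz⟩

theorem bijective_closedPoints_of_unique (h0 : IsClosed {x : X | IsClosed ({x} : Set X)})
    (huniq : ∀ x : X, ∃! z : X, IsClosed ({z} : Set X) ∧ x ⤳ z) :
    Function.Bijective (fun x : {x : X // IsClosed ({x} : Set X)} => _root_.ConnectedComponents.mk x.1) := by
  refine ⟨?_, surjective_closedPoints_mk⟩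
  rintro ⟨x, hx⟩ ⟨y, hy⟩ h
  by_contra hne
  have hxy : ¬ x ⤳ y := fun hs => hne (Subtype.ext (hs.mem_closed hx rfl).symm)
  obtain ⟨U, hUo, hUc, hyU, hxU⟩ : ∃ U : Set X, IsOpen U ∧ IsCompact U ∧ y ∈ U ∧ x ∉ U := by
    by_contra h'
    exact hxy (specializes_of_forall_compactOpen fun U ho hc hyU => by
      by_contra hxU
      exact h' ⟨U, ho, hc, hyU, hxU⟩)
  let X₀ := {x : X | IsClosed ({x} : Set X)}
  have hX₀C := isClosed_C_of_isClosed h0
  have h₁ : IsClosed (X₀ ∩ U) := isClosed_of_stableUnderSpecialization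
    (@IsClosed.inter X X₀ U (constructibleTopology X) hX₀C (isClosed_C_of_compactOpen hUo hUc))
    fun a b hab ha => (hab.mem_closed (ha.1 : IsClosed ({a} : Set X)) rfl : b = a) ▸ ha
  have h₂ : IsClosed (X₀ \ U) := h0.sdiff hUo
  obtain ⟨X₁, X₂, hX₁, hX₂, hd, hu, hZ₁, hZ₂⟩ := exists_clopen_extension X₀ h0 (fun a => by
    obtain ⟨z, ⟨hz, haz⟩, hz'⟩ := huniq a
    have : X₀ ∩ closure {a} = {z} := subset_antisymm
      (fun w ⟨hw, hwa⟩ => hz' w ⟨hw, specializes_iff_mem_closure.2 hwa⟩)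
      (singleton_subset_iff.2 ⟨hz, specializes_iff_mem_closure.1 haz⟩)
    rw [this]
    exact isConnected_singleton) _ _ h₁ h₂ (Set.disjoint_left.2 fun _ ha hb => hb.2 ha.2)
    (Set.inter_union_sdiff _ _)
  have hc : IsClopen X₁ := ⟨hX₁, by
    have : X₁ = X₂ᶜ := by
      ext a
      exact ⟨fun ha ha' => Set.disjoint_left.1 hd ha ha', fun ha => (hu.ge (mem_univ a)).resolve_right ha⟩
    rw [this]; exact hX₂.isOpen_compl⟩
  have hyX₁ : y ∈ X₁ := ((hZ₁.le ⟨hy, hyU⟩ : y ∈ X₀ ∩ X₁)).2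
  have hxX₂ : x ∈ X₂ := ((hZ₂.le ⟨hx, hxU⟩ : x ∈ X₀ ∩ X₂)).2
  exact Set.disjoint_left.1 hd
    (hc.connectedComponent_subset hyX₁ (_root_.ConnectedComponents.coe_eq_coe'.1 h)) hxX₂

/-- Open covers refine to finite clopen partitions iff closed points biject with components. -/
theorem refinement_iff_bijective :
    (∀ (ι : Type u) (U : ι → Set X), (∀ i, IsOpen (U i)) → (⋃ i, U i) = Set.univ →
      ∃ (n : ℕ) (V : Fin n → Set X), (∀ k, IsClopen (V k)) ∧
        Pairwise (fun k l => Disjoint (V k) (V l)) ∧ (⋃ k, V k) = Set.univ ∧ ∀ k, ∃ i, V k ⊆ U i) ↔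
    Function.Bijective (fun x : {x : X // IsClosed ({x} : Set X)} => _root_.ConnectedComponents.mk x.1) := by
  classical
  refine ⟨fun h => ⟨?_, surjective_closedPoints_mk⟩, fun hb ι U hU hcov => ?_⟩
  · rintro ⟨x, hx⟩ ⟨y, hy⟩ hxy
    by_contra hne
    have hne' : x ≠ y := fun e => hne (Subtype.ext e)
    obtain ⟨n, V, hV, -, hVu, hsub⟩ := h (ULift.{u} Bool) (fun b => if b.down then {x}ᶜ else {y}ᶜ)
      (fun b => by rcases b with ⟨_ | _⟩ <;> simp [hx.isOpen_compl, hy.isOpen_compl])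
      (eq_univ_of_forall fun a => by
        by_cases ha : a = x
        · exact mem_iUnion.2 ⟨⟨false⟩, by simp [ha, hne']⟩
        · exact mem_iUnion.2 ⟨⟨true⟩, by simpa using ha⟩)
    obtain ⟨k, hk⟩ := mem_iUnion.1 (hVu.ge (mem_univ x))
    have hyk : y ∈ V k := (hV k).connectedComponent_subset hk
      (_root_.ConnectedComponents.coe_eq_coe'.1 hxy.symm)
    obtain ⟨⟨_ | _⟩, hi⟩ := hsub k
    · exact absurd rfl (hi hyk)
    · exact absurd rfl (hi hk)
  · have key : ∀ x : {x : X // IsClosed ({x} : Set X)}, ∃ (W : Set X) (i : ι), IsClopen W ∧ x.1 ∈ W ∧ W ⊆ U i := by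
      intro x
      obtain ⟨i, hi⟩ := mem_iUnion.1 (hcov.ge (mem_univ x.1))
      have hC : connectedComponent x.1 ⊆ U i := fun z hz => by
        by_contra hzi
        obtain ⟨w, hw, hwc⟩ := exists_closedPoint_mem (isClosed_connectedComponent.sdiff (hU i)) ⟨z, hz, hzi⟩
        have : (⟨w, hwc⟩ : {x : X // IsClosed ({x} : Set X)}) = x :=
          hb.1 (_root_.ConnectedComponents.coe_eq_coe'.2 hw.1)
        refine hw.2 ?_
        rw [show w = x.1 from congrArg Subtype.val this]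
        exact hi
      rw [ConstrPrespectral.connectedComponent_eq_sInter, sInter_eq_biInter] at hC
      obtain ⟨t, ht⟩ := (hU i).isClosed_compl.isCompact.elim_finite_subfamily_closed
        (fun W : {W : Set X // IsClopen W ∧ x.1 ∈ W} => W.1) (fun W => W.2.1.1)
        (eq_empty_iff_forall_notMem.2 fun z ⟨hz, hz'⟩ => hz (hC (mem_iInter₂.2 fun W hW =>
          mem_iInter.1 hz' ⟨W, hW⟩)))
      exact ⟨⋂ W ∈ t, W.1, i, isClopen_biInter_finset fun W _ => W.2.1, mem_iInter₂.2 fun W _ => W.2.2,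
        fun z hz => by_contra fun hzi => eq_empty_iff_forall_notMem.1 ht z ⟨hzi, hz⟩⟩
    choose W i hW hxW hWi using key
    obtain ⟨t, ht⟩ := isCompact_univ.elim_finite_subcover W (fun x => (hW x).2) fun z _ => by
      by_contra hn
      obtain ⟨w, hw, hwc⟩ := exists_closedPoint_mem (isOpen_iUnion fun x => (hW x).2).isClosed_compl ⟨z, hn⟩
      exact hw (mem_iUnion.2 ⟨⟨w, hwc⟩, hxW _⟩)
    let e := t.equivFin.symm
    let V : Fin t.card → Set X := disjointed fun k => W (e k)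
    refine ⟨t.card, V, fun k => ?_, disjoint_disjointed _, ?_, fun k => ⟨i (e k), (disjointed_le _ k).trans (hWi _)⟩⟩
    · exact disjointedRec (fun s j hs => hs.diff (hW _)) (hW _)
    · refine iUnion_disjointed.trans (eq_univ_of_forall fun z => ?_)
      obtain ⟨x, hx, hzx⟩ := mem_iUnion₂.1 (ht (mem_univ z))
      exact mem_iUnion.2 ⟨e.symm ⟨x, hx⟩, by rw [e.apply_symm_apply]; exact hzx⟩

end Groth.Agent.SpectralLib
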