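import Groth.Agent.SpectralLib.Basic

/-!
# Limits of spectral spaces along spectral maps
-/

universe u

open Topology TopologicalSpace Set CategoryTheory CategoryTheory.Limits

noncomputable section

set_option backward.isDefEq.respectTransparency false
set_option backward.defeqAttrib.useBackward true

namespace Groth.Agent.SpectralLib

local notation "C" => constructibleTopology

variable {J : Type u} [SmallCategory J] (F : J ⥤ TopCat.{u}) (c : Cone F) (hc : IsLimit c)

/-- The map to the product. -/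
def toPi (x : c.pt) : ∀ j, F.obj j := fun j => c.π.app j x

/-- Compatible families. -/
def compatible : Set (∀ j, F.obj j) := {x | ∀ ⦃i j : J⦄ (a : i ⟶ j), F.map a (x i) = x j}

lemma map_π {i j : J} (a : i ⟶ j) (x : c.pt) : F.map a (c.π.app i x) = c.π.app j x := by
  exact congr($(c.w a) x)

include hc in
lemma toPi_bijOn : Function.Injective (toPi F c) ∧ Set.range (toPi F c) = compatible F := by
  refine ⟨fun x y h => ?_, Subset.antisymm ?_ fun s hs => ?_⟩
  · let g : c.pt → (TopCat.of PUnit.{u+1} ⟶ c.pt) := fun z => TopCat.ofHom ⟨fun _ => z, continuous_const⟩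
    have : g x = g y := hc.hom_ext fun j => by
      ext
      exact congrFun h j
    exact congr($this PUnit.unit)
  · rintro _ ⟨x, rfl⟩ i j a
    exact map_π F c a x
  · let k : Cone F :=
      { pt := TopCat.of PUnit.{u+1}
        π :=
          { app := fun j => TopCat.ofHom ⟨fun _ => s j, continuous_const⟩
            naturality := fun i j a => by
              ext
              exact (hs a).symm } }
    exact ⟨hc.lift k PUnit.unit, funext fun j => congr($(hc.fac k j) PUnit.unit)⟩

include hc in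
lemma isEmbedding_toPi : IsEmbedding (toPi F c) :=
  ⟨⟨by rw [induced_to_pi]; exact TopCat.induced_of_isLimit c hc⟩, (toPi_bijOn F c hc).1⟩

variable (hF : ∀ j, SpectralSpace (F.obj j))
  (hFm : ∀ {i j : J} (a : i ⟶ j), IsSpectralMap (F.map a : F.obj i → F.obj j))

include hF hFm in
lemma isClosed_compatible : IsClosed[C (∀ j, F.obj j)] (compatible F) := by
  simp only [compatible, Set.ofPred_forall]
  refine @isClosed_iInter (∀ j, F.obj j) _ (C _) _ fun i =>
    @isClosed_iInter (∀ j, F.obj j) _ (C _) _ fun j =>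
    @isClosed_iInter (∀ j, F.obj j) _ (C _) _ fun a => ?_
  have hev := isSpectralMap_eval (fun j => F.obj j)
  exact @isClosed_eq (F.obj j) (∀ j, F.obj j) (C (F.obj j)) (C _) t2Space_C
    (fun x => F.map a (x i)) (fun x => x j) (continuous_C ((hFm a).comp (hev i)))
    (continuous_C (hev j))

include hc hF hFm in
lemma spectralSpace_pt : SpectralSpace c.pt ∧ ∀ j, IsSpectralMap (c.π.app j : c.pt → F.obj j) := by
  have hr : IsClosed[C (∀ j, F.obj j)] (Set.range (toPi F c)) := by
    rw [(toPi_bijOn F c hc).2]; exact isClosed_compatible F hF hFm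
  obtain ⟨h1, h2⟩ := spectralSpace_of_isClosed hr
  obtain ⟨h3, h4⟩ := spectralSpace_homeomorph (isEmbedding_toPi F c hc).toHomeomorph.symm
  refine ⟨h3, fun j => ?_⟩
  exact (isSpectralMap_eval (fun j => F.obj j) j).comp (h2.comp h4)

include hc hF hFm in
lemma isClosed_C_preimage_π {j : J} {Z : Set (F.obj j)} (hZ : IsClosed[C (F.obj j)] Z) :
    IsClosed[C c.pt] (c.π.app j ⁻¹' Z) :=
  @IsClosed.preimage c.pt (F.obj j) (C _) (C _) _
    (continuous_C ((spectralSpace_pt F c hc hF hFm).2 j)) _ hZ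

variable [IsCofiltered J]

include hc hF hFm in
/-- The key existence statement. -/
lemma exists_point_of_forall (Z : ∀ j, Set (F.obj j)) (hZ : ∀ j, IsClosed[C (F.obj j)] (Z j))
    (i₀ : J) (hne : ∀ (O : Finset J) (S : J) (T : ∀ {X : J}, X ∈ O → (S ⟶ X)), i₀ ∈ O →
      ∃ z : F.obj S, ∀ (X : J) (hX : X ∈ O), F.map (T hX) z ∈ Z X) :
    ∃ x : c.pt, ∀ j, c.π.app j x ∈ Z j := by
  classical
  have hev := isSpectralMap_eval (fun j => F.obj j)
  have : ∀ j, Nonempty (F.obj j) := fun j => by
    obtain ⟨S, T⟩ := IsCofiltered.inf_objs_exists ({j, i₀} : Finset J)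
    have hi : i₀ ∈ ({j, i₀} : Finset J) := by simp
    obtain ⟨z, -⟩ := hne _ S (fun h => (T h).some) hi
    exact ⟨F.map (T (show j ∈ ({j, i₀} : Finset J) by simp)).some z⟩
  let P : J ⊕ (Σ (i j : J), i ⟶ j) → Set (∀ j, F.obj j) :=
    Sum.elim (fun j => Function.eval j ⁻¹' Z j) (fun a => {x | F.map a.2.2 (x a.1) = x a.2.1})
  obtain ⟨x, hx⟩ := nonempty_iInter P (fun p => by
    rcases p with j | ⟨i, j, a⟩
    · exact @IsClosed.preimage _ _ (C _) (C _) _ (continuous_C (hev j)) _ (hZ j)
    · exact @isClosed_eq (F.obj j) (∀ j, F.obj j) (C (F.obj j)) (C _) t2Space_C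
        (fun x => F.map a (x i)) (fun x => x j) (continuous_C ((hFm a).comp (hev i)))
        (continuous_C (hev j))) fun s => by
    let O : Finset J := insert i₀ (s.biUnion fun p =>
      Sum.elim (fun j => {j}) (fun a => {a.1, a.2.1}) p)
    have mem : ∀ p ∈ s, ∀ X ∈ (Sum.elim (fun j => {j}) (fun a => {a.1, a.2.1}) p : Finset J),
        X ∈ O := fun p hp X hX =>
      Finset.mem_insert_of_mem (Finset.mem_biUnion.mpr ⟨p, hp, hX⟩)
    let H : Finset (Σ' (X Y : J) (_ : X ∈ O) (_ : Y ∈ O), X ⟶ Y) :=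
      s.attach.biUnion fun p =>
        match p with
        | ⟨Sum.inl _, _⟩ => ∅
        | ⟨Sum.inr a, hp⟩ =>
          {⟨a.1, a.2.1, mem _ hp a.1 (by simp), mem _ hp a.2.1 (by simp), a.2.2⟩}
    obtain ⟨S, T, hT⟩ := IsCofiltered.inf_exists O H
    obtain ⟨z, hz⟩ := hne O S T (Finset.mem_insert_self _ _)
    refine ⟨fun X => if h : X ∈ O then F.map (T h) z else Classical.arbitrary _,
      mem_iInter₂.mpr fun p hp => ?_⟩
    rcases p with j | ⟨i, j, a⟩
    · have hj : j ∈ O := mem _ hp j (by simp)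
      simp only [P, Sum.elim_inl, mem_preimage, Function.eval, dif_pos hj]
      exact hz j hj
    · have hi : i ∈ O := mem _ hp i (by simp)
      have hj : j ∈ O := mem _ hp j (by simp)
      simp only [P, Sum.elim_inr, mem_ofPred_eq, dif_pos hi, dif_pos hj]
      have := hT hi hj (f := a) (Finset.mem_biUnion.mpr ⟨⟨_, hp⟩, Finset.mem_attach _ _, by simp⟩)
      rw [← CategoryTheory.comp_apply, ← F.map_comp, this]
  rw [mem_iInter] at hx
  obtain ⟨y, hy⟩ := (toPi_bijOn F c hc).2.ge
    (show x ∈ compatible F from fun i j a => hx (.inr ⟨i, j, a⟩))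
  exact ⟨y, fun j => by
    have := hx (.inl j)
    rw [← hy] at this
    exact this⟩

include hc hF hFm in
lemma exists_of_preimage_subset {i : J} {E W : Set (F.obj i)} (hE : IsClosed[C (F.obj i)] E)
    (hW : IsOpen[C (F.obj i)] W) :
    (c.π.app i ⁻¹' E ⊆ c.π.app i ⁻¹' W) ↔
      ∃ (j : J) (a : j ⟶ i), F.map a ⁻¹' E ⊆ F.map a ⁻¹' W := by
  refine ⟨fun h => ?_, fun ⟨j, a, h⟩ x hx => ?_⟩
  · by_contra! H
    classical
    let Z : ∀ j, Set (F.obj j) := fun j => if e : j = i then e ▸ (E ∩ Wᶜ) else Set.univ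
    obtain ⟨x, hx⟩ := exists_point_of_forall F c hc hF hFm Z (fun j => by
      by_cases e : j = i
      · subst e
        simp only [Z, dite_true]
        exact @IsClosed.inter _ _ _ (C _) hE ((@isClosed_compl_iff _ (C _) W).mpr hW)
      · simp only [Z, dif_neg e]
        exact @isClosed_univ _ (C _)) i fun O S T hi => by
      obtain ⟨z, hz1, hz2⟩ := not_subset.mp (H S (T hi))
      refine ⟨z, fun X hX => ?_⟩
      by_cases e : X = i
      · subst e
        simp only [Z, dite_true]
        exact ⟨hz1, hz2⟩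
      · simp only [Z, dif_neg e]
        exact mem_univ _
    have := hx i
    simp only [Z, dite_true] at this
    exact this.2 (h this.1)
  · have : F.map a (c.π.app j x) ∈ W := h (by rwa [mem_preimage, map_π F c a x])
    rwa [map_π F c a x] at this

include hc hF hFm in
lemma exists_compactOpen_eq {U : Set c.pt} (ho : IsOpen U) (hcp : IsCompact U) :
    ∃ (i : J) (Ui : Set (F.obj i)), IsOpen Ui ∧ IsCompact Ui ∧ c.π.app i ⁻¹' Ui = U := by
  classical
  have hb := TopCat.isTopologicalBasis_cofiltered_limit F c hc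
    (fun j => {V | IsOpen V ∧ IsCompact V}) (fun j => PrespectralSpace.isTopologicalBasis)
    (fun j => ⟨isOpen_univ, isCompact_univ⟩)
    (fun j U V hU hV => ⟨hU.1.inter hV.1,
      QuasiSeparatedSpace.inter_isCompact _ _ hU.1 hU.2 hV.1 hV.2⟩)
    (fun i j a V hV => ⟨hV.1.preimage (hFm a).continuous, hV.2.preimage_of_isOpen (hFm a) hV.1⟩)
  obtain ⟨s, hs, rfl⟩ := eq_finite_iUnion_of_isTopologicalBasis_of_isCompact_open
    (Subtype.val : ↥{U : Set c.pt | ∃ (j : J) (V : Set (F.obj j)),
      V ∈ {V | IsOpen V ∧ IsCompact V} ∧ U = c.π.app j ⁻¹' V} → Set c.pt)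
    (by rwa [Subtype.range_coe]) U hcp ho
  induction s, hs using Set.Finite.induction_on with
  | empty =>
    obtain ⟨i⟩ := (IsCofiltered.nonempty : Nonempty J)
    exact ⟨i, ∅, isOpen_empty, isCompact_empty, by simp⟩
  | @insert W s hWs hs ih =>
    have hco : IsOpen (⋃ V ∈ s, (V : Set c.pt)) := isOpen_biUnion fun V _ => hb.isOpen V.2
    have hcc : IsCompact (⋃ V ∈ s, (V : Set c.pt)) := hs.isCompact_biUnion fun V _ => by
      obtain ⟨j, V', hV', e⟩ := V.2
      rw [e]
      exact hV'.2.preimage_of_isOpen ((spectralSpace_pt F c hc hF hFm).2 j) hV'.1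
    obtain ⟨i, Ui, hUo, hUc, hU⟩ := ih hco hcc
    obtain ⟨j, V, ⟨hVo, hVc⟩, hV⟩ := W.2
    obtain ⟨k, a, b, -⟩ := IsCofilteredOrEmpty.cone_objs i j
    refine ⟨k, F.map a ⁻¹' Ui ∪ F.map b ⁻¹' V,
      (hUo.preimage (hFm a).continuous).union (hVo.preimage (hFm b).continuous),
      (hUc.preimage_of_isOpen (hFm a) hUo).union (hVc.preimage_of_isOpen (hFm b) hVo), ?_⟩
    rw [biUnion_insert, hV, ← hU]
    ext x
    simp only [mem_preimage, mem_union, map_π F c]
    tauto

lemma isConstructible_preimage {X Y : Type u} [TopologicalSpace X] [TopologicalSpace Y]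
    [CompactSpace Y] [SpectralSpace X] {f : X → Y} (hf : IsSpectralMap f) {s : Set Y}
    (hs : IsConstructible s) : IsConstructible (f ⁻¹' s) :=
  hs.preimage hf.continuous fun t ho ht =>
    (ht.isCompact.preimage_of_isOpen hf ho).isRetrocompact (ho.preimage hf.continuous)

include hc hF hFm in
lemma exists_constructible_eq {E : Set c.pt} (hE : IsConstructible E) :
    ∃ (i : J) (Ei : Set (F.obj i)), IsConstructible Ei ∧ c.π.app i ⁻¹' Ei = E := by
  have := (spectralSpace_pt F c hc hF hFm).1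
  induction hE using IsConstructible.empty_union_induction with
  | open_retrocompact U ho hU =>
    obtain ⟨i, Ui, h1, h2, h3⟩ := exists_compactOpen_eq F c hc hF hFm ho hU.isCompact
    exact ⟨i, Ui, h2.isConstructible h1, h3⟩
  | union s _ t _ h1 h2 =>
    obtain ⟨i, Ei, hi, rfl⟩ := h1
    obtain ⟨j, Ej, hj, rfl⟩ := h2
    obtain ⟨k, a, b, -⟩ := IsCofilteredOrEmpty.cone_objs i j
    refine ⟨k, F.map a ⁻¹' Ei ∪ F.map b ⁻¹' Ej,
      (isConstructible_preimage (hFm a) hi).union (isConstructible_preimage (hFm b) hj), ?_⟩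
    ext x
    simp only [mem_preimage, mem_union, map_π F c]
  | compl s _ h =>
    obtain ⟨i, Ei, hi, rfl⟩ := h
    exact ⟨i, Eiᶜ, hi.compl, rfl⟩

include hc hF hFm in
lemma isCompact_of_isOpen_constructible {E : Set c.pt} (hE : IsConstructible E) :
    IsCompact E := by
  have := (spectralSpace_pt F c hc hF hFm).1
  exact isCompact_of_isClosed_C (isClopen_C_of_isConstructible hE).1

end Groth.Agent.SpectralLib

end
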